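import Mathlib

/-!
# Isomorphisms of local rings spread out
-/

universe u

namespace Groth.Agent.CAlgLocIso

variable {R A : Type u} [CommRing R] [CommRing A] [Algebra R A]

/-- The map between principal localisations. -/
noncomputable def incl (g h : A) (hgh : g ∣ h) : Localization.Away g →ₐ[A] Localization.Away h :=
  IsLocalization.Away.liftAlgHom (S := Localization.Away g) (f := Algebra.ofId A (Localization.Away h)) g
    (isUnit_of_dvd_unit (map_dvd (algebraMap A (Localization.Away h)) hgh) (IsLocalization.Away.algebraMap_isUnit h))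

/-- The map to the local ring. -/
noncomputable def germ (q : Ideal A) [q.IsPrime] (g : A) (hg : g ∉ q) :
    Localization.Away g →ₐ[A] Localization.AtPrime q :=
  IsLocalization.Away.liftAlgHom (S := Localization.Away g) (f := Algebra.ofId A (Localization.AtPrime q)) g
    (IsLocalization.map_units (Localization.AtPrime q) (⟨g, hg⟩ : q.primeCompl))

lemma germ_incl (q : Ideal A) [q.IsPrime] (g h : A) (hg : g ∉ q) (hh : h ∉ q) (hgh : g ∣ h)
    (w : Localization.Away g) : germ q h hh (incl g h hgh w) = germ q g hg w :=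
  DFunLike.congr_fun (IsLocalization.algHom_ext (Submonoid.powers g)
    (f := (germ q h hh).comp (incl g h hgh)) (g := germ q g hg) (Subsingleton.elim _ _)) w

lemma exists_kill (q : Ideal A) [q.IsPrime] (g : A) (hg : g ∉ q) {w : Localization.Away g}
    (hw : germ q g hg w = 0) : ∃ c ∉ q, algebraMap A (Localization.Away g) c * w = 0 := by
  obtain ⟨n, x, hx⟩ := IsLocalization.Away.surj g w
  have h0 : algebraMap A (Localization.AtPrime q) x = algebraMap A (Localization.AtPrime q) 0 := by
    rw [map_zero, ← (germ q g hg).commutes, ← hx, map_mul, hw, zero_mul]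
  obtain ⟨⟨c, hc⟩, hcx⟩ := IsLocalization.exists_of_eq (M := q.primeCompl) h0
  refine ⟨c, hc, ?_⟩
  apply ((IsLocalization.Away.algebraMap_isUnit (S := Localization.Away g) g).pow n).mul_left_injective
  show algebraMap A _ c * w * algebraMap A _ g ^ n = 0 * algebraMap A _ g ^ n
  rw [mul_assoc, hx, ← map_mul, show c * x = c * 0 from hcx, mul_zero, map_zero, zero_mul]

lemma incl_eq_zero (g h : A) (hgh : g ∣ h) {w : Localization.Away g} {c : A}
    (hw : algebraMap A (Localization.Away g) c * w = 0) (hc : c ∣ h) : incl g h hgh w = 0 := by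
  have h1 : algebraMap A (Localization.Away h) c * incl g h hgh w = 0 := by
    rw [← (incl g h hgh).commutes, ← map_mul, hw, map_zero]
  exact (isUnit_of_dvd_unit (map_dvd (algebraMap A (Localization.Away h)) hc)
    (IsLocalization.Away.algebraMap_isUnit h)).mul_right_eq_zero.1 h1

/-- A map to a local ring from a finitely presented algebra is defined on a neighbourhood. -/
lemma exists_lift {S : Type u} [CommRing S] [Algebra R S] [Algebra.FinitePresentation R S]
    (q : Ideal A) [q.IsPrime] (φ : S →ₐ[R] Localization.AtPrime q) :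
    ∃ (g : A) (hg : g ∉ q) (ψ : S →ₐ[R] Localization.Away g), ∀ x, germ q g hg (ψ x) = φ x := by
  classical
  obtain ⟨n, π, hπ, hker⟩ := Algebra.FinitePresentation.out (R := R) (A := S)
  obtain ⟨T, hT⟩ := hker
  choose a s has using fun i : Fin n =>
    IsLocalization.exists_mk'_eq q.primeCompl (φ (π (MvPolynomial.X i)))
  let g0 := ∏ i, (s i).1
  have hg0 : g0 ∉ q := (prod_mem fun i _ => (s i).2 : g0 ∈ q.primeCompl)
  have hu : ∀ i, IsUnit (algebraMap A (Localization.Away g0) (s i).1) := fun i =>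
    isUnit_of_dvd_unit (map_dvd _ (Finset.dvd_prod_of_mem (fun i => (s i).1) (Finset.mem_univ i)))
      (IsLocalization.Away.algebraMap_isUnit g0)
  choose b hb using fun i => (hu i).exists_left_inv
  let ψ0 : MvPolynomial (Fin n) R →ₐ[R] Localization.Away g0 :=
    MvPolynomial.aeval fun i => algebraMap A _ (a i) * b i
  have hψ0 : ((germ q g0 hg0).restrictScalars R).comp ψ0 = φ.comp π := MvPolynomial.algHom_ext fun i => by
    show germ q g0 hg0 (ψ0 (MvPolynomial.X i)) = φ (π (MvPolynomial.X i))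
    rw [MvPolynomial.aeval_X, map_mul, AlgHom.commutes, ← has i, IsLocalization.eq_mk'_iff_mul_eq,
      mul_assoc, ← (germ q g0 hg0).commutes (s i).1, ← map_mul, hb, map_one, mul_one]
  have hkill : ∀ r ∈ T, ∃ c ∉ q, algebraMap A (Localization.Away g0) c * ψ0 r = 0 := fun r hr => by
    refine exists_kill q g0 hg0 ?_
    have : π r = 0 := RingHom.mem_ker.1 (hT ▸ Ideal.subset_span hr)
    exact (DFunLike.congr_fun hψ0 r).trans (by rw [AlgHom.comp_apply, this, map_zero])
  choose! c hcq hc using hkill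
  let g := g0 * ∏ r ∈ T, c r
  have hg : g ∉ q := (mul_mem hg0 (prod_mem fun r hr => hcq r hr) : g ∈ q.primeCompl)
  let ψ1 : MvPolynomial (Fin n) R →ₐ[R] Localization.Away g :=
    ((incl g0 g (dvd_mul_right _ _)).restrictScalars R).comp ψ0
  have hle : RingHom.ker π.toRingHom ≤ RingHom.ker ψ1.toRingHom := by
    rw [← hT, Ideal.span_le]
    intro r hr
    exact incl_eq_zero g0 g (dvd_mul_right _ _) (hc r hr) ((Finset.dvd_prod_of_mem c hr).mul_left _)
  let eπ := Ideal.quotientKerAlgEquivOfSurjective hπ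
  let ψ : S →ₐ[R] Localization.Away g :=
    (Ideal.Quotient.liftₐ _ ψ1 fun r hr => hle hr).comp eπ.symm.toAlgHom
  refine ⟨g, hg, ψ, fun x => ?_⟩
  obtain ⟨p, rfl⟩ := hπ x
  have hψ : ψ (π p) = ψ1 p := by
    show Ideal.Quotient.liftₐ _ ψ1 (fun r hr => hle hr) (eπ.symm (π p)) = _
    rw [show eπ.symm (π p) = Ideal.Quotient.mk _ p from eπ.injective (by rw [eπ.apply_symm_apply]; rfl)]
    rfl
  rw [hψ]
  show germ q g hg (incl g0 g (dvd_mul_right _ _) (ψ0 p)) = _
  rw [germ_incl q g0 g hg0 hg]
  exact DFunLike.congr_fun hψ0 p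

variable {S S' : Type u} [CommRing S] [CommRing S'] [Algebra R S] [Algebra R S']

/-- Isomorphic local rings have isomorphic neighbourhoods. -/
theorem exists_iso_away [Algebra.FinitePresentation R S] [Algebra.FinitePresentation R S'] (q : Ideal S)
    [q.IsPrime] (q' : Ideal S') [q'.IsPrime] (e : Localization.AtPrime q ≃ₐ[R] Localization.AtPrime q') :
    ∃ (g : S) (g' : S'), g ∉ q ∧ g' ∉ q' ∧ Nonempty (Localization.Away g ≃ₐ[R] Localization.Away g') := by
  classical
  let φ : S →ₐ[R] Localization.AtPrime q' :=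
    e.toAlgHom.comp (IsScalarTower.toAlgHom R S (Localization.AtPrime q))
  obtain ⟨g, hg, ψ, hψ⟩ := exists_lift q' φ
  have hφunit : ∀ x, x ∉ q → IsUnit (φ x) := fun x hx =>
    (IsLocalization.map_units (Localization.AtPrime q) (⟨x, hx⟩ : q.primeCompl)).map e
  have hunitq : ∀ x, IsUnit (φ x) → x ∉ q := fun x hx => by
    have h := hx.map e.symm
    rw [show e.symm (φ x) = algebraMap S _ x from e.symm_apply_apply _] at h
    exact (IsLocalization.AtPrime.isUnit_to_map_iff (Localization.AtPrime q) q x).1 h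
  have hnotmem : ∀ z : S', IsUnit (algebraMap S' (Localization.AtPrime q') z) → z ∉ q' := fun z hz =>
    (IsLocalization.AtPrime.isUnit_to_map_iff (Localization.AtPrime q') q' z).1 hz
  obtain ⟨G0, hG0⟩ := (inferInstance : Algebra.FiniteType R S').out
  choose a s has using fun z : S' =>
    IsLocalization.exists_mk'_eq q.primeCompl (e.symm (algebraMap S' (Localization.AtPrime q') z))
  have hkill : ∀ z : S', ∃ c ∉ q', algebraMap S' (Localization.Away g) c *
      (ψ (a z) - algebraMap S' _ z * ψ (s z).1) = 0 := fun z => by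
    refine exists_kill q' g hg ?_
    have h1 : φ (a z) = algebraMap S' _ z * φ (s z).1 := by
      have h := congrArg e ((IsLocalization.mk'_eq_iff_eq_mul.1 (has z)))
      rw [map_mul, e.apply_symm_apply] at h
      exact h
    rw [map_sub, map_mul, hψ, hψ, AlgHom.commutes, h1, sub_self]
  choose c hcq hc using hkill
  let s0 : S := ∏ z ∈ G0, (s z).1
  have hs0 : s0 ∉ q := (prod_mem fun z _ => (s z).2 : s0 ∈ q.primeCompl)
  obtain ⟨k0, n0, hn0⟩ := IsLocalization.Away.surj g (ψ s0)
  have hn0q : n0 ∉ q' := hnotmem n0 (by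
    rw [← (germ q' g hg).commutes, ← hn0, map_mul, map_pow, AlgHom.commutes, hψ]
    exact (hφunit _ hs0).mul ((IsLocalization.map_units (Localization.AtPrime q') (⟨g, hg⟩ : q'.primeCompl)).pow _))
  let G' := g * n0 * ∏ z ∈ G0, c z
  have hG' : G' ∉ q' := (mul_mem (mul_mem hg hn0q) (prod_mem fun z _ => hcq z) : G' ∈ q'.primeCompl)
  have hgG : g ∣ G' := dvd_mul_of_dvd_left (dvd_mul_right _ _) _
  let T := Localization.Away G'
  let τ : S →ₐ[R] T := ((incl g G' hgG).restrictScalars R).comp ψ
  have hτgerm : ∀ x, germ q' G' hG' (τ x) = φ x := fun x => by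
    show germ q' G' hG' (incl g G' hgG (ψ x)) = _
    rw [germ_incl q' g G' hg hG', hψ]
  have hG'u : IsUnit (algebraMap S' T G') := IsLocalization.Away.algebraMap_isUnit G'
  have hdvdunit : ∀ {x : S'}, x ∣ G' → IsUnit (algebraMap S' T x) := fun h =>
    isUnit_of_dvd_unit (map_dvd _ h) hG'u
  have hs0u : IsUnit (τ s0) := by
    have h : τ s0 * algebraMap S' T g ^ k0 = algebraMap S' T n0 := by
      rw [← map_pow, ← (incl g G' hgG).commutes (g ^ k0)]
      show incl g G' hgG (ψ s0) * incl g G' hgG _ = _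
      rw [← map_mul, map_pow, hn0, AlgHom.commutes]
    have h2 : IsUnit (algebraMap S' T n0) := hdvdunit (dvd_mul_of_dvd_left (dvd_mul_left _ _) _)
    rw [← h] at h2
    exact isUnit_of_mul_isUnit_left h2
  have hrep : ∀ z : S', ∃ (x : S) (k : ℕ), algebraMap S' T z * τ s0 ^ k = τ x := by
    intro z
    have hz : z ∈ Algebra.adjoin R (G0 : Set S') := hG0 ▸ Algebra.mem_top
    induction hz using Algebra.adjoin_induction with
    | mem z hz =>
      rw [Finset.mem_coe] at hz
      refine ⟨a z * ∏ y ∈ G0.erase z, (s y).1, 1, ?_⟩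
      have h1 : incl g G' hgG (ψ (a z) - algebraMap S' _ z * ψ (s z).1) = 0 :=
        incl_eq_zero g G' hgG (hc z) ((Finset.dvd_prod_of_mem c hz).mul_left _)
      rw [map_sub, map_mul, AlgHom.commutes, sub_eq_zero] at h1
      rw [pow_one, map_mul, show τ (a z) = algebraMap S' T z * τ (s z).1 from h1, mul_assoc, ← map_mul,
        Finset.mul_prod_erase G0 (fun y => (s y).1) hz]
    | algebraMap r => exact ⟨algebraMap R S r, 0, by
        rw [pow_zero, mul_one, AlgHom.commutes, ← IsScalarTower.algebraMap_apply]⟩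
    | add u v _ _ hu hv =>
      obtain ⟨x, k, hx⟩ := hu
      obtain ⟨y, l, hy⟩ := hv
      refine ⟨x * s0 ^ l + y * s0 ^ k, k + l, ?_⟩
      rw [map_add (algebraMap S' T), map_add τ, map_mul, map_mul, map_pow, map_pow, ← hx, ← hy]
      ring
    | mul u v _ _ hu hv =>
      obtain ⟨x, k, hx⟩ := hu
      obtain ⟨y, l, hy⟩ := hv
      refine ⟨x * y, k + l, ?_⟩
      rw [map_mul (algebraMap S' T), map_mul τ, ← hx, ← hy]
      ring
  obtain ⟨a0, k1, ha0⟩ := hrep G'
  have ha0u : IsUnit (τ a0) := ha0 ▸ hG'u.mul (hs0u.pow _)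
  have ha0q : a0 ∉ q := hunitq a0 (hτgerm a0 ▸ ha0u.map (germ q' G' hG'))
  let P := s0 * a0
  have hP : P ∉ q := (mul_mem hs0 ha0q : P ∈ q.primeCompl)
  have hPu : IsUnit (τ P) := by rw [map_mul]; exact hs0u.mul ha0u
  let σ : Localization.Away P →ₐ[R] T :=
    IsLocalization.Away.liftAlgHom (S := Localization.Away P) (f := τ) P hPu
  have hσ : ∀ x, σ (algebraMap S _ x) = τ x := fun x => IsLocalization.Away.lift_eq (S := Localization.Away P) P hPu x
  have hinvσ : ∀ x : S, x ∣ P → IsUnit (τ x) → ∃ w, σ w * τ x = 1 := fun x hx _ => by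
    obtain ⟨i, hi⟩ := (isUnit_of_dvd_unit (map_dvd (algebraMap S (Localization.Away P)) hx)
      (IsLocalization.Away.algebraMap_isUnit P)).exists_left_inv
    exact ⟨i, by rw [← hσ, ← map_mul, hi, map_one]⟩
  have hmemσ : ∀ z : S', algebraMap S' T z ∈ σ.range := fun z => by
    obtain ⟨x, k, hx⟩ := hrep z
    obtain ⟨i, hi⟩ := hinvσ s0 (dvd_mul_right _ _) hs0u
    refine ⟨algebraMap S _ x * i ^ k, ?_⟩
    show σ _ = _
    rw [map_mul, hσ, map_pow, ← hx, mul_assoc, ← mul_pow, mul_comm (τ s0), hi, one_pow, mul_one]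
  have hinvG' : ∃ w, σ w * algebraMap S' T G' = 1 := by
    obtain ⟨i, hi⟩ := hinvσ a0 (dvd_mul_left _ _) ha0u
    exact ⟨i * algebraMap S _ s0 ^ k1, by rw [map_mul, map_pow, hσ, mul_assoc, mul_comm (τ s0 ^ k1), ha0, hi]⟩
  have hsurj : Function.Surjective σ := fun t => by
    obtain ⟨j, z, hz⟩ := IsLocalization.Away.surj G' t
    obtain ⟨w, hw⟩ := hmemσ z
    obtain ⟨i, hi⟩ := hinvG'
    refine ⟨w * i ^ j, ?_⟩
    rw [map_mul, map_pow, show σ w = algebraMap S' T z from hw, ← hz, mul_assoc, ← mul_pow,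
      mul_comm (algebraMap S' T G'), hi, one_pow, mul_one]
  haveI : Algebra.FinitePresentation S (Localization.Away P) := IsLocalization.Away.finitePresentation P
  haveI : Algebra.FinitePresentation S' T := IsLocalization.Away.finitePresentation G'
  haveI : Algebra.FinitePresentation R (Localization.Away P) := Algebra.FinitePresentation.trans R S _
  haveI : Algebra.FinitePresentation R T := Algebra.FinitePresentation.trans R S' _
  obtain ⟨K, hK⟩ := Algebra.FinitePresentation.ker_fG_of_surjective σ hsurj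
  have hkillK : ∀ w ∈ K, ∃ d ∉ q, algebraMap S (Localization.Away P) d * w = 0 := fun w hw => by
    refine exists_kill q P hP ?_
    have h0 : σ w = 0 := RingHom.mem_ker.1 (hK ▸ Ideal.subset_span hw)
    obtain ⟨j, x, hx⟩ := IsLocalization.Away.surj P w
    have hφx : φ x = 0 := by
      rw [← hτgerm, ← hσ, ← hx, map_mul, h0, zero_mul, map_zero]
    have hxL : algebraMap S (Localization.AtPrime q) x = 0 := e.injective (hφx.trans (map_zero e).symm)
    have h1 := congrArg (germ q P hP) hx
    rw [map_mul, map_pow, AlgHom.commutes, AlgHom.commutes, hxL] at h1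
    exact ((IsLocalization.map_units (Localization.AtPrime q) (⟨P, hP⟩ : q.primeCompl)).pow j).mul_left_eq_zero.1 h1
  choose! d hdq hd using hkillK
  let u := ∏ w ∈ K, d w
  have hu : u ∉ q := (prod_mem fun w hw => hdq w hw : u ∈ q.primeCompl)
  have hkeru : ∀ w, σ w = 0 → algebraMap S (Localization.Away P) u * w = 0 := fun w hw => by
    have hw' : w ∈ Ideal.span (K : Set (Localization.Away P)) := hK ▸ RingHom.mem_ker.2 hw
    induction hw' using Submodule.span_induction with
    | mem y hy =>
      obtain ⟨r, hr⟩ := Finset.dvd_prod_of_mem d (Finset.mem_coe.1 hy)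
      rw [show u = d y * r from hr, map_mul, mul_comm (algebraMap S _ (d y)), mul_assoc, hd y (Finset.mem_coe.1 hy), mul_zero]
    | zero => rw [mul_zero]
    | add x y _ _ hx hy => 
      have hx' : σ x = 0 := RingHom.mem_ker.1 (hK ▸ (by assumption : x ∈ Submodule.span (Localization.Away P) (K : Set (Localization.Away P))))
      have hy' : σ y = 0 := RingHom.mem_ker.1 (hK ▸ (by assumption : y ∈ Submodule.span (Localization.Away P) (K : Set (Localization.Away P))))
      rw [mul_add, hx hx', hy hy', add_zero]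
    | smul r x _ hx =>
      have hx' : σ x = 0 := RingHom.mem_ker.1 (hK ▸ (by assumption : x ∈ Submodule.span (Localization.Away P) (K : Set (Localization.Away P))))
      rw [smul_eq_mul, mul_left_comm, hx hx', mul_zero]
  obtain ⟨ju, nu, hnu⟩ := IsLocalization.Away.surj G' (τ u)
  have hnuq : nu ∉ q' := hnotmem nu (by
    rw [← (germ q' G' hG').commutes, ← hnu, map_mul, map_pow, AlgHom.commutes, hτgerm]
    exact (hφunit _ hu).mul ((IsLocalization.map_units (Localization.AtPrime q') (⟨G', hG'⟩ : q'.primeCompl)).pow _))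
  let G2 := G' * nu
  let T2 := Localization.Away G2
  let ι : T →ₐ[S'] T2 := incl G' G2 (dvd_mul_right _ _)
  let τ2 : S →ₐ[R] T2 := (ι.restrictScalars R).comp τ
  have hG2u : IsUnit (algebraMap S' T2 G2) := IsLocalization.Away.algebraMap_isUnit G2
  have heq : τ2 u * algebraMap S' T2 G' ^ ju = algebraMap S' T2 nu := by
    rw [← map_pow, ← ι.commutes (G' ^ ju)]
    show ι (τ u) * ι _ = _
    rw [← map_mul, map_pow, hnu, AlgHom.commutes]
  have hnu2 : IsUnit (algebraMap S' T2 nu) := isUnit_of_dvd_unit (map_dvd _ (dvd_mul_left _ _)) hG2u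
  have hτ2u : IsUnit (τ2 u) := by
    rw [← heq] at hnu2
    exact isUnit_of_mul_isUnit_left hnu2
  let G := P * u
  have hGu : IsUnit (τ2 G) := by rw [map_mul]; exact (hPu.map ι).mul hτ2u
  let σ2 : Localization.Away G →ₐ[R] T2 :=
    IsLocalization.Away.liftAlgHom (S := Localization.Away G) (f := τ2) G hGu
  have hσ2 : ∀ x, σ2 (algebraMap S _ x) = τ2 x := fun x =>
    IsLocalization.Away.lift_eq (S := Localization.Away G) G hGu x
  refine ⟨G, G2, (mul_mem hP hu : G ∈ q.primeCompl), (mul_mem hG' hnuq : G2 ∈ q'.primeCompl),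
    ⟨AlgEquiv.ofBijective σ2 ⟨?_, fun t => ?_⟩⟩⟩
  · rw [injective_iff_map_eq_zero]
    intro w hw
    obtain ⟨m, x, hx⟩ := IsLocalization.Away.surj G w
    have hx0 : τ2 x = 0 := by rw [← hσ2, ← hx, map_mul, hw, zero_mul]
    obtain ⟨i, z, hz⟩ := IsLocalization.Away.surj G' (τ x)
    have hz0 : algebraMap S' T2 z = algebraMap S' T2 0 := by
      rw [map_zero, ← ι.commutes, ← hz, map_mul, show ι (τ x) = 0 from hx0, zero_mul]
    obtain ⟨⟨_, l, rfl⟩, hl⟩ := IsLocalization.exists_of_eq (M := Submonoid.powers G2) hz0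
    have h1 : τ (u ^ l * x) = 0 := by
      have h2 : algebraMap S' T (G2 ^ l * z) = 0 := by
        rw [show G2 ^ l * z = G2 ^ l * 0 from hl, mul_zero, map_zero]
      simp only [G2, map_mul, map_pow, ← hz, ← hnu] at h2
      rw [map_mul, map_pow]
      refine (((hG'u.mul (hG'u.pow ju)).pow l).mul (hG'u.pow i)).mul_left_eq_zero.1 ?_
      rw [← h2]
      ring
    have h2 := hkeru _ ((hσ _).trans h1)
    rw [← map_mul, IsLocalization.map_eq_zero_iff (Submonoid.powers P)] at h2
    obtain ⟨⟨_, p, rfl⟩, hp⟩ := h2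
    have h3 : algebraMap S (Localization.Away G) x = 0 := by
      refine (IsLocalization.map_eq_zero_iff (Submonoid.powers G) _ _).2 ⟨⟨_, p + (l + 1), rfl⟩, ?_⟩
      show (P * u) ^ (p + (l + 1)) * x = 0
      rw [show (P * u) ^ (p + (l + 1)) * x = P ^ (l + 1) * u ^ p * (P ^ p * (u * (u ^ l * x))) by ring,
        show P ^ p * (u * (u ^ l * x)) = 0 from hp, mul_zero]
    rw [h3] at hx
    exact ((IsLocalization.Away.algebraMap_isUnit G).pow m).mul_left_eq_zero.1 hx
  · obtain ⟨j, z, hz⟩ := IsLocalization.Away.surj G2 t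
    have hfac : ∀ x : T, ∃ w, σ2 w = ι x := fun x => by
      obtain ⟨v, rfl⟩ := hsurj x
      have hP2 : IsUnit (algebraMap S (Localization.Away G) P) :=
        isUnit_of_dvd_unit (map_dvd _ (dvd_mul_right _ _)) (IsLocalization.Away.algebraMap_isUnit G)
      obtain ⟨m, y, hy⟩ := IsLocalization.Away.surj P v
      obtain ⟨i, hi⟩ := hP2.exists_left_inv
      refine ⟨algebraMap S _ y * i ^ m, ?_⟩
      have h := congrArg (fun w => ι (σ w)) hy
      simp only [map_mul, map_pow, hσ] at h
      have hi' : σ2 i * τ2 P = 1 := by rw [← hσ2, ← map_mul, hi, map_one]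
      rw [map_mul, hσ2, map_pow]
      show ι (τ y) * σ2 i ^ m = _
      rw [← h, show ι (τ P) = τ2 P from rfl, mul_assoc, ← mul_pow, mul_comm (τ2 P), hi', one_pow, mul_one]
    obtain ⟨w, hw⟩ := hfac (algebraMap S' T z)
    obtain ⟨iG, hiG⟩ := hG'u.exists_left_inv
    obtain ⟨wG, hwG⟩ := hfac (iG ^ (1 + ju))
    have hu' : IsUnit (algebraMap S (Localization.Away G) u) :=
      isUnit_of_dvd_unit (map_dvd _ (dvd_mul_left _ _)) (IsLocalization.Away.algebraMap_isUnit G)
    obtain ⟨iu, hiu⟩ := hu'.exists_left_inv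
    have hinv : σ2 (wG * iu) * algebraMap S' T2 G2 = 1 := by
      have h1 : σ2 iu * τ2 u = 1 := by rw [← hσ2, ← map_mul, hiu, map_one]
      have h2 : ι (iG ^ (1 + ju)) * algebraMap S' T2 G' ^ (1 + ju) = 1 := by
        rw [← map_pow, ← ι.commutes, ← map_mul, map_pow, ← mul_pow, hiG, one_pow, map_one]
      rw [map_mul σ2, hwG, map_mul (algebraMap S' T2), ← heq]
      linear_combination (σ2 iu * τ2 u) * h2 + h1
    refine ⟨w * (wG * iu) ^ j, ?_⟩
    rw [map_mul, map_pow, hw, AlgHom.commutes, ← hz, mul_assoc, ← mul_pow,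
      mul_comm (algebraMap S' T2 G2), hinv, one_pow, mul_one]

/-- If `R_p → S_q` is bijective then `R_f` is a factor of `S_f`. -/
theorem exists_product_decomposition [Algebra.FinitePresentation R S] (q : Ideal S) [q.IsPrime]
    (p : Ideal R) [p.IsPrime] [q.LiesOver p]
    (h : Function.Bijective (Localization.localRingHom p q (algebraMap R S) (q.over_def p))) :
    ∃ f : R, f ∉ p ∧ ∀ (Rf Sf : Type u) [CommRing Rf] [CommRing Sf] [Algebra R Rf] [IsLocalization.Away f Rf]
      [Algebra S Sf] [IsLocalization.Away (algebraMap R S f) Sf] [Algebra Rf Sf] [Algebra R Sf] [IsScalarTower R S Sf]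
      [IsScalarTower R Rf Sf],
      ∃ (C : Type u) (_ : CommRing C) (_ : Algebra Rf C), Nonempty (Sf ≃ₐ[Rf] (Rf × C)) := by
  let θ : Localization.AtPrime p →ₐ[R] Localization.AtPrime q :=
    { Localization.localRingHom p q (algebraMap R S) (q.over_def p) with
      commutes' := fun r => by
        rw [IsScalarTower.algebraMap_apply R S (Localization.AtPrime q)]
        exact Localization.localRingHom_to_map _ _ _ _ _ }
  obtain ⟨g, f, hg, hf, ⟨e⟩⟩ := exists_iso_away (R := R) (S := S) (S' := R) q p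
    (AlgEquiv.ofBijective θ h).symm
  refine ⟨f, hf, ?_⟩
  intro Rf Sf _ _ _ _ _ _ _ _ _ _
  haveI : Algebra.FinitePresentation R Sf := by
    haveI : Algebra.FinitePresentation S Sf := IsLocalization.Away.finitePresentation (algebraMap R S f)
    exact Algebra.FinitePresentation.trans R S _
  let eR := IsLocalization.algEquiv (Submonoid.powers f) (Localization.Away f) Rf
  let χ : S →ₐ[R] Rf := (eR.toAlgHom.comp e.toAlgHom).comp (IsScalarTower.toAlgHom R S (Localization.Away g))
  have hχu : IsUnit (χ (algebraMap R S f)) := by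
    rw [χ.commutes]; exact IsLocalization.Away.algebraMap_isUnit f
  let π : Sf →ₐ[R] Rf := IsLocalization.Away.liftAlgHom (S := Sf) (f := χ) (algebraMap R S f) hχu
  have hπS : ∀ x, π (algebraMap S Sf x) = χ x := fun x =>
    IsLocalization.Away.lift_eq (S := Sf) (algebraMap R S f) hχu x
  have hπR : ∀ x, π (algebraMap Rf Sf x) = x := by
    have : (π.toRingHom.comp (algebraMap Rf Sf)) = RingHom.id Rf :=
      IsLocalization.ringHom_ext (Submonoid.powers f) (RingHom.ext fun r => by
        show π (algebraMap Rf Sf (algebraMap R Rf r)) = algebraMap R Rf r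
        rw [← IsScalarTower.algebraMap_apply, π.commutes])
    exact fun x => RingHom.congr_fun this x
  let πA : Sf →ₐ[Rf] Rf := { π with commutes' := hπR }
  have hπsurj : Function.Surjective π := fun x => ⟨algebraMap Rf Sf x, hπR x⟩
  haveI : Algebra.FinitePresentation R Rf := IsLocalization.Away.finitePresentation f
  have hJfg : (RingHom.ker π.toRingHom).FG := Algebra.FinitePresentation.ker_fG_of_surjective π hπsurj
  let J := RingHom.ker π.toRingHom
  have hgu : IsUnit (χ g) := ((IsLocalization.Away.algebraMap_isUnit g).map e).map eR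
  have hkill : ∀ x ∈ J, ∃ N : ℕ, algebraMap S Sf g ^ N * x = 0 := by
    intro x hx
    obtain ⟨i, y, hy⟩ := IsLocalization.Away.surj (algebraMap R S f) x
    have hy0 : χ y = 0 := by
      rw [← hπS, ← hy, map_mul, show π x = 0 from hx, zero_mul]
    have hy1 : algebraMap S (Localization.Away g) y = algebraMap S (Localization.Away g) 0 := by
      rw [map_zero]
      exact e.injective (eR.injective (hy0.trans (by rw [map_zero, map_zero])))
    obtain ⟨⟨_, N, rfl⟩, hN⟩ := IsLocalization.exists_of_eq (M := Submonoid.powers g) hy1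
    refine ⟨N, ((IsLocalization.Away.algebraMap_isUnit (S := Sf) (algebraMap R S f)).pow i).mul_left_eq_zero.1 ?_⟩
    rw [mul_assoc, hy, ← map_pow, ← map_mul, show g ^ N * y = g ^ N * 0 from hN, mul_zero, map_zero]
  obtain ⟨T, hT⟩ := id hJfg
  choose! N hN using fun x (hx : x ∈ T) => hkill x (hT.le (Ideal.subset_span hx))
  have hidem : IsIdempotentElem J := by
    refine le_antisymm Ideal.mul_le_left (show J ≤ J * J from hT.ge.trans (Ideal.span_le.2 fun x hx => ?_))
    obtain ⟨c, hc⟩ : ∃ c, c = algebraMap S Sf g ^ N x - algebraMap Rf Sf (χ g ^ N x) := ⟨_, rfl⟩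
    have hcJ : c ∈ J := by
      show π c = 0
      rw [hc, map_sub, map_pow, hπS, hπR, sub_self]
    have hu : IsUnit (algebraMap Rf Sf (χ g ^ N x)) := (hgu.pow _).map _
    obtain ⟨i, hi⟩ := hu.exists_left_inv
    have hx0 : x = (-(i * c)) * x := by
      linear_combination i * (hN x hx) + (i * x) * hc - x * hi
    show x ∈ J * J
    rw [hx0]
    exact Ideal.mul_mem_mul (J.neg_mem (J.mul_mem_left i hcJ)) (hT.le (Ideal.subset_span hx))
  obtain ⟨ε, hε, hJε⟩ := (Ideal.isIdempotentElem_iff_of_fg J hJfg).1 hidem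
  let d := AlgEquiv.prodQuotientOfIsIdempotentElem Rf hε hε.one_sub (by simp) (by simp [mul_sub, hε.eq])
  let e₁ : (Sf ⧸ Ideal.span {ε}) ≃ₐ[Rf] Rf :=
    (Ideal.quotientEquivAlgOfEq Rf (show Ideal.span {ε} = RingHom.ker πA from hJε.symm)).trans
      (Ideal.quotientKerAlgEquivOfSurjective (f := πA) hπsurj)
  exact ⟨Sf ⧸ Ideal.span {1 - ε}, inferInstance, inferInstance, ⟨d.trans (e₁.prodCongr AlgEquiv.refl)⟩⟩

end Groth.Agent.CAlgLocIso
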